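import Groth.Agent.PairVanLib.Main
import Groth.Agent.AVVanishLib.Basic
import Groth.Agent.FormalCohLib.Counit
import Groth.Agent.ProjFormLib.Proj
import Groth.Agent.AmpleDevLib.Pull
import Groth.Agent.RpushLib.Compare
import Groth.Agent.SerreVanLib.Rpush
import Groth.Agent.CubeConsLib.IsoCls

/-!
# Uniform vanishing through a contraction with acyclic fibres
-/

set_option autoImplicit false
set_option linter.style.haveILetI false
set_option backward.isDefEq.respectTransparency false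
set_option backward.isDefEq.respectTransparency.types false
set_option maxHeartbeats 1000000
universe u

open CategoryTheory CategoryTheory.Limits AlgebraicGeometry TopologicalSpace Opposite
open HilbPolyLib
open CubeConsLib (cl cl_eq_iff cl_tensor pull pull_cl)

noncomputable section

namespace PairVanLib

variable {X Y : Scheme.{u}}

theorem cl_tensorPow' (L : X.Modules) : ∀ m : ℕ, cl (CohB1.tensorPow L m) = cl L ^ m
  | 0 => (pow_zero _).symm
  | m + 1 => by rw [pow_succ, ← cl_tensorPow' L m]; rfl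

/-- The restriction of a direct image that vanishes, through cohomology over opens. -/
theorem subsingleton_HHon_iff (M : X.Modules) (U : X.Opens) (i : ℕ) :
    Subsingleton (Coh.HHon X M U i) ↔ Subsingleton (QCohLib.HU ((QCohLib.toAbF X).obj M) i U) := by
  obtain ⟨e₂⟩ := QCohLib.nonempty_HU_restrict U.ι M i ⊤
  rw [Scheme.Opens.ι_image_top] at e₂
  exact (QCohLib.subsingleton_H_iff ((QCohLib.toAbF (U : Scheme)).obj (M.restrict U.ι)) i).trans e₂.toEquiv.subsingleton_congr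

theorem subsingleton_HHon_restrict (M : X.Modules) (V : X.Opens) (T : (V : Scheme.{u}).Opens) (i : ℕ)
    (h : Subsingleton (Coh.HHon X M (V.ι ''ᵁ T) i)) :
    Subsingleton (Coh.HHon (V : Scheme.{u}) (M.restrict V.ι) T i) := by
  obtain ⟨e⟩ := QCohLib.nonempty_HU_restrict V.ι M i T
  rw [subsingleton_HHon_iff] at h ⊢
  exact e.toEquiv.subsingleton

/-- Vanishing of a higher direct image restricts. -/
theorem isZero_rpush_restrict (f : X ⟶ Y) [IsProper f] [IsLocallyNoetherian Y] (M : X.Modules) [Coh.IsQCoh M]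
    (i : ℕ) (h : IsZero ((Coh.Rpush f i).obj M)) (V : Y.Opens) :
    IsZero ((Coh.Rpush (f ∣_ V) i).obj (M.restrict (f ⁻¹ᵁ V).ι)) := by
  haveI : IsProper (f ∣_ V) := IsZariskiLocalAtTarget.restrict ‹_› V
  haveI : Coh.IsQCoh (M.restrict (f ⁻¹ᵁ V).ι) := inferInstance
  haveI := RpushLib.isQCoh_Rpush (f ∣_ V) (M.restrict (f ⁻¹ᵁ V).ι) i
  refine KFlatLib.isZero_of_stalks fun y => ?_
  obtain ⟨W, hW, hy, -⟩ := Opens.isBasis_iff_nbhd.mp (V : Scheme.{u}).isBasis_affineOpens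
    (show y ∈ (⊤ : (V : Scheme.{u}).Opens) from trivial)
  refine SerreVanLib.subsingleton_stalk_of_sections ((Coh.Rpush (f ∣_ V) i).obj (M.restrict (f ⁻¹ᵁ V).ι)) hW ?_ hy
  have hW' : IsAffineOpen (V.ι ''ᵁ W) := hW.image_of_isOpenImmersion V.ι
  haveI := RpushLib.isQCoh_Rpush f M i
  have h0 : Subsingleton Γ((Coh.Rpush f i).obj M, V.ι ''ᵁ W) :=
    subsingleton_of_forall_eq 0 fun a => congr(Scheme.Modules.Hom.app $(h.eq_of_src (𝟙 _) 0) (V.ι ''ᵁ W) a)
  have h1 : Subsingleton (Coh.HHon X M (f ⁻¹ᵁ (V.ι ''ᵁ W)) i) :=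
    (RpushLib.rpushSectionsEquiv f M i hW').symm.injective.subsingleton
  rw [← AlgebraicGeometry.image_morphismRestrict_preimage] at h1
  haveI := subsingleton_HHon_restrict M (f ⁻¹ᵁ V) _ i h1
  exact (RpushLib.rpushSectionsEquiv (f ∣_ V) (M.restrict (f ⁻¹ᵁ V).ι) i hW).injective.subsingleton

/-- Generating sections pull back. -/
theorem sections_pullback (ψ : X ⟶ Y) {N : Y.Modules} (hN : CohB1.IsAmple N) {L : X.Modules} {ℓ : ℕ} (hℓ : 0 < ℓ)
    (eN : (Scheme.Modules.pullback ψ).obj N ≅ CohB1.tensorPow L ℓ) (x : X) :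
    ∃ (n : ℕ) (s : Coh.structureModule X ⟶ CohB1.tensorPow L (n + 1)),
      x ∈ CohB1.genLocus (CohB1.tensorPow L (n + 1)) s := by
  obtain ⟨n, s, hy, -⟩ := hN.2.2 (ψ x)
  obtain ⟨U, hU, hyU⟩ : ∃ U : Y.Opens, IsIso ((Scheme.Modules.restrictFunctor U.ι).map s) ∧ ψ x ∈ U := by
    obtain ⟨U, hU, hyU⟩ := Opens.mem_sSup.1 hy
    exact ⟨U, hU, hyU⟩
  obtain ⟨m, hm⟩ : ∃ m, ℓ * (n + 1) = m + 1 :=
    ⟨ℓ * (n + 1) - 1, (Nat.sub_add_cancel (Nat.mul_pos hℓ (Nat.succ_pos n))).symm⟩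
  obtain ⟨e₁⟩ := cl_eq_iff.1 (show cl ((Scheme.Modules.pullback ψ).obj (CohB1.tensorPow N (n + 1))) =
      cl (CohB1.tensorPow L (m + 1)) by
    rw [← hm, ← pull_cl, cl_tensorPow', map_pow, pull_cl, cl_eq_iff.2 ⟨eN⟩, cl_tensorPow',
      cl_tensorPow', ← pow_mul])
  let e₀ := KFlatLib.pullUnitIso ψ
  let φ : Coh.structureModule X ⟶ CohB1.tensorPow L (m + 1) :=
    e₀.inv ≫ (Scheme.Modules.pullback ψ).map s ≫ e₁.hom
  haveI : IsIso ((Scheme.Modules.pullback U.ι).map s) := by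
    rw [← NatIso.isIso_map_iff (Scheme.Modules.restrictFunctorIsoPullback U.ι)]
    exact hU
  haveI : IsIso ((Scheme.Modules.pullback ((ψ ∣_ U) ≫ U.ι)).map s) := by
    rw [← NatIso.isIso_map_iff (Scheme.Modules.pullbackComp (ψ ∣_ U) U.ι), Functor.comp_map]
    infer_instance
  haveI : IsIso ((Scheme.Modules.pullback ((ψ ⁻¹ᵁ U).ι ≫ ψ)).map s) := by
    rw [← NatIso.isIso_map_iff (Scheme.Modules.pullbackCongr (morphismRestrict_ι ψ U))]
    infer_instance
  haveI : IsIso ((Scheme.Modules.restrictFunctor (ψ ⁻¹ᵁ U).ι).map ((Scheme.Modules.pullback ψ).map s)) := by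
    rw [NatIso.isIso_map_iff (Scheme.Modules.restrictFunctorIsoPullback (ψ ⁻¹ᵁ U).ι), ← Functor.comp_map,
      NatIso.isIso_map_iff (Scheme.Modules.pullbackComp (ψ ⁻¹ᵁ U).ι ψ)]
    infer_instance
  refine ⟨m, φ, Opens.mem_sSup.2 ⟨ψ ⁻¹ᵁ U, ?_, hyU⟩⟩
  show IsIso ((Scheme.Modules.restrictFunctor (ψ ⁻¹ᵁ U).ι).map φ)
  simp only [φ, Functor.map_comp]
  infer_instance

/-- The vanishing on an affine chart of the base. -/
theorem exists_bound_flat [IsNoetherian X] [IsNoetherian Y] (ψ : X ⟶ Y) [IsProper ψ]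
    {L M : X.Modules} (hL : PicF.IsInvertible L) (hM : PicF.IsInvertible M)
    {N : Y.Modules} (hNi : PicF.IsInvertible N) (hN : CohB1.IsAmple N) {ℓ : ℕ} (hℓ : 0 < ℓ)
    (eN : (Scheme.Modules.pullback ψ).obj N ≅ CohB1.tensorPow L ℓ) {c d : ℕ}
    (hvanM : ∀ G : X.Modules, Coh.IsCoh G → ∃ n₀ : ℕ, ∀ n : ℕ, n₀ ≤ n → ∀ p : ℕ, 0 < p →
      Subsingleton (Coh.HH X (CohB1.tensorMod G (CohB1.tensorPow M n)) p))
    (hvanN : ∀ G : Y.Modules, Coh.IsCoh G → ∃ n₀ : ℕ, ∀ n : ℕ, n₀ ≤ n → ∀ p : ℕ, 0 < p →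
      Subsingleton (Coh.HH Y (CohB1.tensorMod G (CohB1.tensorPow N n)) p))
    (hz : ∀ a b i : ℕ, d ≤ b → 1 ≤ i → i ≤ c → IsZero ((Coh.Rpush ψ i).obj (W L M a b))) :
    ∃ n : ℕ, ∀ a b i : ℕ, d ≤ b → n ≤ max a b → 1 ≤ i → i ≤ c → Subsingleton (Coh.HH X (W L M a b) i) := by
  classical
  obtain ⟨B, hB⟩ := exists_bound hM hL hvanM (fun x => sections_pullback ψ hN hℓ eN x) (Coh.structureModule X)
    (DevissLib.isCoh_structureModule X)
  choose q₀ hq₀ using fun p : Fin ℓ × Fin B => hvanN ((Scheme.Modules.pushforward ψ).obj (W L M p.1 p.2))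
    (FormalCohLib.isCoh_push_proper ψ (CurvLib.isCoh_of_isInvertible
      (isInvertible_tensor (AmpleThLib.tensorPow_isInvertible hL _) (AmpleThLib.tensorPow_isInvertible hM _))))
  refine ⟨B + ℓ * (∑ p, q₀ p + 1), fun a b i hdb hn hi hic => ?_⟩
  rcases le_or_gt B b with hb | hb
  · exact SerreVanLib.subsingleton_HH_of_iso
      (swapIso _ _ ≪≫ (unitLeft _).symm ≪≫ swapIso _ _) i (hB b hb a i hi)
  have ha : ℓ * (∑ p, q₀ p + 1) ≤ a := by omega
  have hq : ∑ p, q₀ p + 1 ≤ a / ℓ := (Nat.le_div_iff_mul_le hℓ).mpr (by rwa [mul_comm] at ha)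
  let r : Fin ℓ := ⟨a % ℓ, Nat.mod_lt _ hℓ⟩
  have hq' : q₀ (r, ⟨b, hb⟩) ≤ a / ℓ := by
    have := Finset.single_le_sum (f := q₀) (fun _ _ => Nat.zero_le _) (Finset.mem_univ (r, (⟨b, hb⟩ : Fin B)))
    omega
  have hNq := AmpleThLib.tensorPow_isInvertible hNi (a / ℓ)
  have hW : ∀ a b : ℕ, Coh.IsQCoh (W L M a b) := fun a b => (CurvLib.isCoh_of_isInvertible
    (isInvertible_tensor (AmpleThLib.tensorPow_isInvertible hL a) (AmpleThLib.tensorPow_isInvertible hM b))).1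
  haveI := hW (a % ℓ) b
  -- the direct image
  obtain ⟨e₁⟩ := cl_eq_iff.1 (show cl (CohB1.tensorMod ((Scheme.Modules.pullback ψ).obj
      (CohB1.tensorPow N (a / ℓ))) (W L M (a % ℓ) b)) = cl (W L M a b) by
    rw [cl_tensor, cl_tensor, cl_tensor, ← pull_cl, cl_tensorPow', map_pow, pull_cl,
      cl_eq_iff.2 ⟨eN⟩, cl_tensorPow', cl_tensorPow', cl_tensorPow', ← pow_mul,
      cl_tensorPow', ← mul_assoc, ← pow_add, Nat.div_add_mod])
  let π₀ : (Scheme.Modules.pushforward ψ).obj (W L M a b) ≅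
      CohB1.tensorMod ((Scheme.Modules.pushforward ψ).obj (W L M (a % ℓ) b)) (CohB1.tensorPow N (a / ℓ)) :=
    (Scheme.Modules.pushforward ψ).mapIso e₁.symm ≪≫
      ((ProjFormLib.projIso' ψ (CohB1.tensorPow N (a / ℓ)) (AmpleDevLib.isFinLocFree_of_isInvertible hNq)).app (W L M (a % ℓ) b)).symm ≪≫
      swapIso _ _
  refine LerayLowLib.subsingleton_H_of_antidiagonal ψ.base (Coh.toAb (W L M a b)) i fun p j hpj => ?_
  rcases Nat.eq_zero_or_pos j with hj | hj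
  · subst hj
    obtain ⟨e⟩ := RpushLib.nonempty_toAb_rpush_iso ψ (W L M a b) 0
    have h0 : Subsingleton (Coh.HH Y ((Coh.Rpush ψ 0).obj (W L M a b)) p) :=
      SerreVanLib.subsingleton_HH_of_iso ((Scheme.Modules.pushforward ψ).rightDerivedZeroIsoSelf.app _ ≪≫ π₀) p
        (hq₀ (r, ⟨b, hb⟩) (a / ℓ) hq' p (by omega))
    exact Function.Injective.subsingleton (f := Sheaf.H.map e.inv p) fun s t hst => by
      have := congrArg (Sheaf.H.map e.hom p) hst
      rw [← Sheaf.H.map_comp_apply, ← Sheaf.H.map_comp_apply, e.inv_hom_id, Sheaf.H.map_id_apply,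
        Sheaf.H.map_id_apply] at this
      exact this
  · exact AVVanishLib.subsingleton_H_of_isZero
      (AVVanishLib.rpushAb_isZero ψ (W L M a b) j (hz a b j hdb hj (by omega))) p

end PairVanLib

end
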