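import Groth.Agent.CohAmpLib.Tools
import Groth.Agent.HilbPolyLib.Basic
import Groth.Agent.SerreVanLib.Rpush
import Groth.Agent.CohExtLib.Basic

/-!
# Uniform vanishing for products of powers of two ample modules
-/

set_option autoImplicit false
set_option linter.style.haveILetI false
set_option backward.isDefEq.respectTransparency false
set_option backward.isDefEq.respectTransparency.types false
set_option maxHeartbeats 1000000
universe u

open CategoryTheory CategoryTheory.Limits AlgebraicGeometry TopologicalSpace Opposite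
open CategoryTheory.Abelian
open HilbPolyLib

noncomputable section

namespace PairVanLib

variable {X : Scheme.{u}}

theorem ext_right.{w, v', u'} {C : Type u'} [Category.{v'} C] [Abelian C] [HasExt.{w} C] {A : C}
    {T : ShortComplex C} (hT : T.ShortExact) {n : ℕ} (h₂ : Subsingleton (Ext A T.X₂ n))
    (h₁ : Subsingleton (Ext A T.X₁ (n + 1))) : Subsingleton (Ext A T.X₃ n) :=
  subsingleton_of_forall_eq 0 fun z => by
    obtain ⟨y, rfl⟩ := Ext.covariant_sequence_exact₃ _ hT z rfl (h₁.allEq _ _)
    rw [h₂.allEq y 0, Ext.zero_comp]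

theorem subsingleton_right {S : ShortComplex X.Modules} (hS : S.ShortExact) {p : ℕ}
    (h₂ : Subsingleton (Coh.HH X S.X₂ p)) (h₁ : Subsingleton (Coh.HH X S.X₁ (p + 1))) :
    Subsingleton (Coh.HH X S.X₃ p) :=
  ext_right.{u, u, u + 1} (QCohLib.toAbF_shortExact hS) h₂ h₁

theorem subsingleton_of_isZero' {N : X.Modules} (h0 : IsZero N) (p : ℕ) : Subsingleton (Coh.HH X N p) := by
  refine subsingleton_of_forall_eq 0 fun z => ?_
  have hid : 𝟙 ((QCohLib.toAbF X).obj N) = 0 := ((QCohLib.toAbF X).map_isZero h0).eq_of_src _ _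
  exact (Ext.comp_mk₀_id z).symm.trans (by rw [hid, Ext.mk₀_zero, Ext.comp_zero])

/-- Multiplication by a section. -/
def mulMap {P : X.Modules} (s : Coh.structureModule X ⟶ P) (G : X.Modules) : G ⟶ CohB1.tensorMod P G :=
  (unitLeft G).inv ≫ ((DCoh.tensorBi (X := X)).map s).app G

theorem notMem_support_mulMap {P : X.Modules} (s : Coh.structureModule X ⟶ P) (G : X.Modules) {z : X}
    (hz : z ∈ CohB1.genLocus P s) :
    z ∉ CohB1.support (kernel (mulMap s G)) ∧ z ∉ CohB1.support (cokernel (mulMap s G)) := by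
  obtain ⟨U, hU, hzU⟩ : ∃ U : X.Opens, IsIso ((Scheme.Modules.restrictFunctor U.ι).map s) ∧ z ∈ U := by
    obtain ⟨U, hU, hzU⟩ := Opens.mem_sSup.1 hz
    exact ⟨U, hU, hzU⟩
  haveI := CohAmpLib.isIso_restrict_tensor s G U
  haveI : IsIso ((Scheme.Modules.restrictFunctor U.ι).map (mulMap s G)) := by
    rw [mulMap, Functor.map_comp]
    exact IsIso.comp_isIso
  exact ⟨fun h => CohExtLib.support_kernel_subset (mulMap s G) h hzU,
    fun h => CohExtLib.support_cokernel_subset (mulMap s G) h hzU⟩

variable (L M : X.Modules)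

/-- `L^a ⊗ M^b`. -/
abbrev W (a b : ℕ) : X.Modules := CohB1.tensorMod (CohB1.tensorPow L a) (CohB1.tensorPow M b)

variable {L M}

/-- Eventual vanishing of the twists, uniformly in the second exponent. -/
theorem exists_bound [IsNoetherian X] (hL : PicF.IsInvertible L) (hM : PicF.IsInvertible M)
    (hvan : ∀ G : X.Modules, Coh.IsCoh G → ∃ N : ℕ, ∀ n : ℕ, N ≤ n → ∀ p : ℕ, 0 < p →
      Subsingleton (Coh.HH X (CohB1.tensorMod G (CohB1.tensorPow L n)) p))
    (hsec : ∀ x : X, ∃ (n : ℕ) (s : Coh.structureModule X ⟶ CohB1.tensorPow M (n + 1)),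
      x ∈ CohB1.genLocus (CohB1.tensorPow M (n + 1)) s) (F : X.Modules) (hF : Coh.IsCoh F) :
    ∃ N : ℕ, ∀ a : ℕ, N ≤ a → ∀ (b p : ℕ), 0 < p → Subsingleton (Coh.HH X (CohB1.tensorMod (W L M a b) F) p) := by
  classical
  choose m s hs using hsec
  obtain ⟨t, ht⟩ := isCompact_univ.elim_finite_subcover
    (fun x : X => ((CohB1.genLocus (CohB1.tensorPow M (m x + 1)) (s x) : X.Opens) : Set X))
    (fun x => (CohB1.genLocus (CohB1.tensorPow M (m x + 1)) (s x)).2) fun x _ => Set.mem_iUnion.mpr ⟨x, hs x⟩
  have key : ∀ T : Finset X, ∀ G : X.Modules, Coh.IsCoh G →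
      (∀ x ∈ t, x ∉ T → ∀ z ∈ CohB1.support G, z ∉ CohB1.genLocus (CohB1.tensorPow M (m x + 1)) (s x)) →
      ∃ N : ℕ, ∀ a : ℕ, N ≤ a → ∀ (b p : ℕ), 0 < p →
        Subsingleton (Coh.HH X (CohB1.tensorMod (W L M a b) G) p) := by
    intro T
    induction T using Finset.induction_on with
    | empty =>
      intro G hG hsupp
      refine ⟨0, fun a _ b p _ => ?_⟩
      have hW : PicF.IsInvertible (W L M a b) :=
        isInvertible_tensor (AmpleThLib.tensorPow_isInvertible hL a) (AmpleThLib.tensorPow_isInvertible hM b)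
      have h0 : IsZero (CohB1.tensorMod (W L M a b) G) := KFlatLib.isZero_of_stalks fun z =>
        not_not.mp fun hz => by
          have hz' : z ∈ CohB1.support (CohB1.tensorMod (W L M a b) G) := hz
          rw [support_tensor hW] at hz'
          obtain ⟨x, hxt, hx⟩ := Set.mem_iUnion₂.mp (ht (Set.mem_univ z))
          exact hsupp x hxt (Finset.notMem_empty x) z hz' hx
      exact subsingleton_of_isZero' h0 p
    | @insert x T hxT ih =>
      intro G hG hsupp
      haveI := hG.1
      set m₀ := m x + 1 with hm₀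
      let P := CohB1.tensorPow M m₀
      have hP : PicF.IsInvertible P := AmpleThLib.tensorPow_isInvertible hM m₀
      have hPG : Coh.IsCoh (CohB1.tensorMod P G) := isCoh_tensor hP hG
      let φ : G ⟶ CohB1.tensorMod P G := mulMap (s x) G
      have hbij : ∀ z ∈ CohB1.genLocus P (s x), z ∉ CohB1.support (kernel φ) ∧ z ∉ CohB1.support (cokernel φ) :=
        fun z hz => notMem_support_mulMap (s x) G hz
      have hK : Coh.IsCoh (kernel φ) := QCohLib.isCoh_kernel φ hG hPG.1
      have hC : Coh.IsCoh (cokernel φ) := QCohLib.isCoh_cokernel φ hG.1 hPG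
      have hKs : CohB1.support (kernel φ) ⊆ CohB1.support G := DevissLib.support_mono (kernel.ι φ)
      have hCs : CohB1.support (cokernel φ) ⊆ CohB1.support G :=
        (DevissLib.support_epi (cokernel.π φ)).trans (support_tensor hP G).le
      obtain ⟨NK, hNK⟩ := ih _ hK fun y hyt hyT z hz => by
        by_cases hyx : y = x
        · subst hyx; exact fun h => (hbij z h).1 hz
        · exact hsupp y hyt (by simp [hyx, hyT]) z (hKs hz)
      obtain ⟨NC, hNC⟩ := ih _ hC fun y hyt hyT z hz => by
        by_cases hyx : y = x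
        · subst hyx; exact fun h => (hbij z h).2 hz
        · exact hsupp y hyt (by simp [hyx, hyT]) z (hCs hz)
      choose N₀ hN₀ using fun b : Fin m₀ => hvan (CohB1.tensorMod (CohB1.tensorPow M b) G)
        (isCoh_tensor (AmpleThLib.tensorPow_isInvertible hM b) hG)
      refine ⟨NK + NC + ∑ b, N₀ b, fun a ha b => ?_⟩
      induction b using Nat.strong_induction_on with
      | _ b ihb =>
        intro p hp
        rcases lt_or_ge b m₀ with hb | hb
        · have hle : N₀ ⟨b, hb⟩ ≤ a := le_trans (Finset.single_le_sum (f := N₀) (fun _ _ => Nat.zero_le _)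
            (Finset.mem_univ _)) (by omega)
          exact SerreVanLib.subsingleton_HH_of_iso (assocIso _ _ _ ≪≫ swapIso _ _) p (hN₀ ⟨b, hb⟩ a hle p hp)
        obtain ⟨c, rfl⟩ : ∃ c, b = c + m₀ := ⟨b - m₀, (Nat.sub_add_cancel hb).symm⟩
        have hW : PicF.IsInvertible (W L M a c) :=
          isInvertible_tensor (AmpleThLib.tensorPow_isInvertible hL a) (AmpleThLib.tensorPow_isInvertible hM c)
        let S₁ : ShortComplex X.Modules :=
          ShortComplex.mk (kernel.ι φ) (cokernel.π (kernel.ι φ)) (cokernel.condition _)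
        have hS₁ : S₁.ShortExact :=
          { exact := ShortComplex.exact_cokernel _, mono_f := inferInstanceAs (Mono (kernel.ι φ))
            epi_g := inferInstanceAs (Epi (cokernel.π _)) }
        let S₂ : ShortComplex X.Modules :=
          ShortComplex.mk (kernel.ι (cokernel.π φ)) (cokernel.π φ) (kernel.condition _)
        have hS₂ : S₂.ShortExact :=
          { exact := ShortComplex.exact_kernel _, mono_f := inferInstanceAs (Mono (kernel.ι _))
            epi_g := inferInstanceAs (Epi (cokernel.π φ)) }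
        have hIm : Subsingleton (Coh.HH X (CohB1.tensorMod (W L M a c) (Abelian.coimage φ)) p) :=
          subsingleton_right (shortExact_tensor hW hS₁) (ihb c (by omega) p hp) (hNK a (by omega) c (p + 1) (Nat.succ_pos p))
        have hIm' : Subsingleton (Coh.HH X (CohB1.tensorMod (W L M a c) (kernel (cokernel.π φ))) p) :=
          SerreVanLib.subsingleton_HH_of_iso (congrRight _ (Abelian.coimageIsoImage φ).symm) p hIm
        have hmid : Subsingleton (Coh.HH X (CohB1.tensorMod (W L M a c) (CohB1.tensorMod P G)) p) :=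
          SuppCdLib.subsingleton_mid (shortExact_tensor hW hS₂) hIm' (hNC a (by omega) c p hp)
        refine SerreVanLib.subsingleton_HH_of_iso ?_ p hmid
        exact congrLeft ((congrRight _ (AmpleThLib.mulIso hM c m₀).symm) ≪≫ (assocIso _ _ _).symm) G ≪≫
          assocIso _ _ _
  exact key t F hF fun x hx hxt => absurd hx hxt

theorem sections_of_isAmple {A : X.Modules} (hA : CohB1.IsAmple A) (x : X) :
    ∃ (n : ℕ) (s : Coh.structureModule X ⟶ CohB1.tensorPow A (n + 1)),
      x ∈ CohB1.genLocus (CohB1.tensorPow A (n + 1)) s := by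
  obtain ⟨n, s, hx, -⟩ := hA.2.2 x
  exact ⟨n, s, hx⟩

/-- Vanishing when the larger exponent is large. -/
theorem exists_bound_max [IsNoetherian X] (hL : PicF.IsInvertible L) (hM : PicF.IsInvertible M)
    (hvanL : ∀ G : X.Modules, Coh.IsCoh G → ∃ N : ℕ, ∀ n : ℕ, N ≤ n → ∀ p : ℕ, 0 < p →
      Subsingleton (Coh.HH X (CohB1.tensorMod G (CohB1.tensorPow L n)) p))
    (hvanM : ∀ G : X.Modules, Coh.IsCoh G → ∃ N : ℕ, ∀ n : ℕ, N ≤ n → ∀ p : ℕ, 0 < p →
      Subsingleton (Coh.HH X (CohB1.tensorMod G (CohB1.tensorPow M n)) p))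
    (hAL : CohB1.IsAmple L) (hAM : CohB1.IsAmple M) (F : X.Modules) (hF : Coh.IsCoh F) :
    ∃ n : ℕ, ∀ a b : ℕ, n ≤ max a b → ∀ p : ℕ, 0 < p →
      Subsingleton (Coh.HH X (CohB1.tensorMod F (W L M a b)) p) := by
  obtain ⟨N, hN⟩ := exists_bound hL hM hvanL (fun x => sections_of_isAmple hAM x) F hF
  obtain ⟨N', hN'⟩ := exists_bound hM hL hvanM (fun x => sections_of_isAmple hAL x) F hF
  refine ⟨max N N', fun a b hab p hp => ?_⟩
  refine SerreVanLib.subsingleton_HH_of_iso (swapIso F _) p ?_
  rcases le_total b a with h | h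
  · exact hN a (by omega) b p hp
  · exact SerreVanLib.subsingleton_HH_of_iso (congrLeft (swapIso _ _) F) p (hN' b (by omega) a p hp)

end PairVanLib

end
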